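import Mathlib

/-!
# Presentations of bounded size: base change, gluing along localizations and products
-/

set_option autoImplicit false

universe u v

open scoped TensorProduct

namespace Groth.Agent.AlgzPi47

/-- A presentation with generators indexed by `σ` and relations indexed by `τ`. -/
def Pres (R M : Type*) [CommRing R] [AddCommGroup M] [Module R M] (σ τ : Type*) : Prop :=
  ∃ (π : (σ → R) →ₗ[R] M) (ψ : (τ → R) →ₗ[R] (σ → R)), Function.Surjective π ∧ Function.Exact ψ π

theorem exists_pres (R M : Type*) [CommRing R] [AddCommGroup M] [Module R M]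
    [Module.FinitePresentation R M] : ∃ n m : ℕ, Pres R M (Fin n) (Fin m) := by
  obtain ⟨n, f, hf⟩ := Module.Finite.exists_fin' R M
  have hk : (LinearMap.ker f).FG := Module.FinitePresentation.fg_ker f hf
  obtain ⟨m, v, hv⟩ := Submodule.fg_iff_exists_fin_generating_family.1 hk
  refine ⟨n, m, f, Fintype.linearCombination R v, hf, LinearMap.exact_iff.2 ?_⟩
  rw [Fintype.range_linearCombination, hv]

/-- Presentations base change. -/
theorem Pres.baseChange {R S M M' σ τ : Type*} [CommRing R] [CommRing S] [Algebra R S]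
    [AddCommGroup M] [Module R M] [AddCommGroup M'] [Module R M'] [Module S M'] [IsScalarTower R S M']
    [Fintype σ] [DecidableEq σ] [Fintype τ] [DecidableEq τ]
    (h : Pres R M σ τ) {f : M →ₗ[R] M'} (hf : IsBaseChange S f) : Pres S M' σ τ := by
  obtain ⟨π, ψ, hπ, hψ⟩ := h
  let eσ := TensorProduct.piScalarRight R S S σ
  let eτ := TensorProduct.piScalarRight R S S τ
  refine ⟨hf.equiv.toLinearMap ∘ₗ π.baseChange S ∘ₗ eσ.symm.toLinearMap,
    eσ.toLinearMap ∘ₗ ψ.baseChange S ∘ₗ eτ.symm.toLinearMap, ?_, ?_⟩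
  · have h1 : Function.Surjective (π.baseChange S) := by
      rw [LinearMap.baseChange_eq_ltensor]
      exact LinearMap.lTensor_surjective S hπ
    intro z
    obtain ⟨y, hy⟩ := hf.equiv.surjective z
    obtain ⟨w, hw⟩ := h1 y
    exact ⟨eσ w, by simp [hw, hy]⟩
  · have he : Function.Exact (ψ.baseChange S) (π.baseChange S) := by
      rw [LinearMap.baseChange_eq_ltensor, LinearMap.baseChange_eq_ltensor]
      exact lTensor_exact S hψ hπ
    intro x
    constructor
    · intro hx
      obtain ⟨y, hy⟩ := (he (eσ.symm x)).1 (hf.equiv.injective (hx.trans (map_zero _).symm))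
      exact ⟨eτ y, by simp [hy]⟩
    · rintro ⟨y, rfl⟩
      simp [he.apply_apply_eq_zero]

/-- Clearing denominators in a span. -/
theorem exists_pow_smul_mem_span {R S M M' σ : Type*} [CommRing R] [CommRing S] [Algebra R S]
    [AddCommGroup M] [Module R M] [AddCommGroup M'] [Module R M'] [Module S M'] [IsScalarTower R S M']
    (r : R) [IsLocalization.Away r S] (f : M →ₗ[R] M') [IsLocalizedModule.Away r f] (v : σ → M)
    (x : M) (hx : f x ∈ Submodule.span S (Set.range (f ∘ v))) :
    ∃ m : ℕ, r ^ m • x ∈ Submodule.span R (Set.range v) := by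
  have key : ∀ y ∈ Submodule.span S (Set.range (f ∘ v)),
      ∃ (m : ℕ) (z : M), z ∈ Submodule.span R (Set.range v) ∧ r ^ m • y = f z := by
    intro y hy
    induction hy using Submodule.span_induction with
    | mem y hy =>
      obtain ⟨i, rfl⟩ := hy
      exact ⟨0, v i, Submodule.subset_span ⟨i, rfl⟩, by simp⟩
    | zero => exact ⟨0, 0, zero_mem _, by simp⟩
    | add a b _ _ ha hb =>
      obtain ⟨m, z, hz, he⟩ := ha
      obtain ⟨m', z', hz', he'⟩ := hb
      refine ⟨m + m', r ^ m' • z + r ^ m • z', add_mem (Submodule.smul_mem _ _ hz) (Submodule.smul_mem _ _ hz'), ?_⟩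
      rw [map_add, map_smul, map_smul, ← he, ← he', smul_add, smul_smul, smul_smul, ← pow_add,
        ← pow_add, add_comm m' m]
    | smul c a _ ha =>
      obtain ⟨m, z, hz, he⟩ := ha
      obtain ⟨⟨b, ⟨_, k, rfl⟩⟩, hb⟩ := IsLocalization.surj (Submonoid.powers r) c
      refine ⟨k + m, b • z, Submodule.smul_mem _ _ hz, ?_⟩
      rw [map_smul, ← he, ← algebraMap_smul S (r ^ (k + m)), ← algebraMap_smul S b, ← hb,
        ← algebraMap_smul S (r ^ m) a, pow_add, map_mul]
      simp only [smul_smul]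
      congr 1
      ring
  obtain ⟨m, z, hz, he⟩ := key _ hx
  rw [← map_smul] at he
  obtain ⟨⟨_, k, rfl⟩, hk⟩ := IsLocalizedModule.exists_of_eq (S := Submonoid.powers r) he
  refine ⟨k + m, ?_⟩
  rw [pow_add, mul_smul]
  exact (show r ^ k • r ^ m • x = r ^ k • z from hk) ▸ Submodule.smul_mem _ _ hz

theorem mem_of_forall_pow_smul_mem {R M κ : Type*} [CommRing R] [AddCommGroup M] [Module R M]
    (r : κ → R) (hr : Ideal.span (Set.range r) = ⊤) (N : Submodule R M) (x : M)
    (h : ∀ a, ∃ m : ℕ, r a ^ m • x ∈ N) : x ∈ N := by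
  refine Submodule.mem_of_span_eq_top_of_smul_pow_mem N (Set.range r) hr x ?_
  rintro ⟨_, a, rfl⟩
  exact h a

theorem mem_iff_smul_unit {R M : Type*} [CommRing R] [AddCommGroup M] [Module R M] (N : Submodule R M)
    {u : R} (hu : IsUnit u) (x : M) : u • x ∈ N ↔ x ∈ N := by
  refine ⟨fun h => ?_, N.smul_mem u⟩
  have := N.smul_mem (↑hu.unit⁻¹ : R) h
  rwa [smul_smul, hu.val_inv_mul, one_smul] at this

/-- A lift of a map out of a finite free module. -/
theorem exists_lift {R M F σ : Type*} [CommRing R] [AddCommGroup M] [Module R M] [AddCommGroup F]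
    [Module R F] [Fintype σ] [DecidableEq σ] (ρ : (σ → R) →ₗ[R] M) (g : F →ₗ[R] M)
    (hg : Function.Surjective g) : ∃ β : (σ → R) →ₗ[R] F, g ∘ₗ β = ρ :=
  Module.projective_lifting_property g ρ hg

/-- Presentations glue along a unimodular family of elements. -/
theorem Pres.of_cover {R M : Type u} [CommRing R] [AddCommGroup M] [Module R M]
    {κ : Type} [Fintype κ] (r : κ → R) (hr : Ideal.span (Set.range r) = ⊤)
    (Rr : κ → Type u) [∀ a, CommRing (Rr a)] [∀ a, Algebra R (Rr a)]
    [∀ a, IsLocalization.Away (r a) (Rr a)]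
    (Mr : κ → Type u) [∀ a, AddCommGroup (Mr a)] [∀ a, Module R (Mr a)] [∀ a, Module (Rr a) (Mr a)]
    [∀ a, IsScalarTower R (Rr a) (Mr a)]
    (f : ∀ a, M →ₗ[R] Mr a) [∀ a, IsLocalizedModule.Away (r a) (f a)]
    (σ τ : κ → Type) [∀ a, Fintype (σ a)] [∀ a, DecidableEq (σ a)] [∀ a, Fintype (τ a)]
    [∀ a, DecidableEq (τ a)] [DecidableEq κ]
    (h : ∀ a, Pres (Rr a) (Mr a) (σ a) (τ a)) :
    Pres R M (Σ a, σ a) (Σ a, τ a ⊕ Σ b, σ b) := by
  choose π ψ hπ hψ using h
  have hnum : ∀ p : Σ a, σ a, ∃ (z : M) (m : ℕ), r p.1 ^ m • π p.1 (Pi.single p.2 1) = f p.1 z := by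
    intro p
    obtain ⟨⟨z, ⟨_, m, rfl⟩⟩, hz⟩ :=
      IsLocalizedModule.surj (Submonoid.powers (r p.1)) (f p.1) (π p.1 (Pi.single p.2 1))
    exact ⟨z, m, hz⟩
  choose z m hz using hnum
  let ρ : ((Σ a, σ a) → R) →ₗ[R] M := Fintype.linearCombination R z
  have hspan : ∀ a, Submodule.span (Rr a) (Set.range (f a ∘ z)) = ⊤ := by
    intro a
    refine eq_top_iff.2 fun y _ => ?_
    obtain ⟨c, rfl⟩ := hπ a y
    rw [pi_eq_sum_univ' c, map_sum]
    refine Submodule.sum_mem _ fun i _ => ?_
    rw [map_smul]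
    refine Submodule.smul_mem _ _ ?_
    have hu : IsUnit (algebraMap R (Rr a) (r a ^ m ⟨a, i⟩)) := by
      rw [map_pow]; exact (IsLocalization.Away.algebraMap_isUnit (r a)).pow _
    rw [← mem_iff_smul_unit _ hu, algebraMap_smul, hz ⟨a, i⟩]
    exact Submodule.subset_span ⟨⟨a, i⟩, rfl⟩
  have hρ : Function.Surjective ρ := by
    rw [← LinearMap.range_eq_top, Fintype.range_linearCombination, eq_top_iff]
    intro x _
    exact mem_of_forall_pow_smul_mem r hr _ x fun a =>
      exists_pow_smul_mem_span (r a) (f a) z x ((hspan a).ge trivial)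
  have hrel : ∀ a, ∃ v : (τ a ⊕ Σ b, σ b) → ((Σ b, σ b) → R), (∀ j, ρ (v j) = 0) ∧
      ∀ x, ρ x = 0 → ∃ n : ℕ, r a ^ n • x ∈ Submodule.span R (Set.range v) := by
    intro a
    let ρa : ((Σ b, σ b) → Rr a) →ₗ[Rr a] Mr a := Fintype.linearCombination (Rr a) (f a ∘ z)
    have hρa : Function.Surjective ρa := by
      rw [← LinearMap.range_eq_top, Fintype.range_linearCombination]; exact hspan a
    obtain ⟨β, hβ⟩ := exists_lift ρa (π a) (hπ a)
    obtain ⟨α, hα⟩ := exists_lift (π a) ρa hρa
    let ι : ((Σ b, σ b) → R) →ₗ[R] ((Σ b, σ b) → Rr a) :=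
      LinearMap.pi fun p => (Algebra.linearMap R (Rr a)) ∘ₗ LinearMap.proj p
    have hι : ∀ x, ρa (ι x) = f a (ρ x) := by
      intro x
      simp only [ρa, ρ, ι, Fintype.linearCombination_apply, map_sum, map_smul, LinearMap.pi_apply,
        LinearMap.comp_apply, LinearMap.proj_apply, Algebra.linearMap_apply, algebraMap_smul,
        Function.comp_apply]
    let w : (τ a ⊕ Σ b, σ b) → ((Σ b, σ b) → Rr a) :=
      Sum.elim (fun j => α (ψ a (Pi.single j 1))) (fun p => Pi.single p 1 - α (β (Pi.single p 1)))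
    have hαπ : ∀ y, ρa (α y) = π a y := fun y => congr($hα y)
    have hβπ : ∀ y, π a (β y) = ρa y := fun y => congr($hβ y)
    have hw0 : ∀ j, ρa (w j) = 0 := by
      rintro (j | p)
      · simp [w, hαπ, (hψ a).apply_apply_eq_zero]
      · simp [w, hαπ, hβπ]
    have hwspan : ∀ x, ρa x = 0 → x ∈ Submodule.span (Rr a) (Set.range w) := by
      intro x hx
      obtain ⟨c, hc⟩ := (hψ a (β x)).1 (by rw [hβπ, hx])
      have e : x = (∑ p, x p • w (Sum.inr p)) + ∑ j, c j • w (Sum.inl j) := by
        have h1 : ∑ j, c j • w (Sum.inl j) = α (β x) := by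
          rw [← hc]
          conv_rhs => rw [pi_eq_sum_univ' c]
          simp [w, map_sum]
        have h2 : ∑ p, x p • w (Sum.inr p) = x - α (β x) := by
          conv_rhs => rw [pi_eq_sum_univ' x]
          simp [w, map_sum, smul_sub, Finset.sum_sub_distrib]
        rw [h1, h2, sub_add_cancel]
      rw [e]
      exact add_mem (Submodule.sum_mem _ fun p _ => Submodule.smul_mem _ _ (Submodule.subset_span ⟨_, rfl⟩))
        (Submodule.sum_mem _ fun p _ => Submodule.smul_mem _ _ (Submodule.subset_span ⟨_, rfl⟩))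
    haveI : IsLocalizedModule.Away (r a) ι := by
      haveI : IsLocalizedModule.Away (r a) (Algebra.linearMap R (Rr a)) :=
        (isLocalizedModule_iff_isLocalization' _ _).2 inferInstance
      exact inferInstanceAs (IsLocalizedModule _ (LinearMap.pi fun p : (Σ b, σ b) =>
        (Algebra.linearMap R (Rr a)) ∘ₗ LinearMap.proj p))
    have hv : ∀ j, ∃ (v : (Σ b, σ b) → R) (n : ℕ), ρ v = 0 ∧ ι v = algebraMap R (Rr a) (r a ^ n) • w j := by
      intro j
      obtain ⟨⟨v, ⟨_, n, rfl⟩⟩, hn⟩ := IsLocalizedModule.surj (Submonoid.powers (r a)) ι (w j)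
      have hn' : r a ^ n • w j = ι v := hn
      have h0 : f a (ρ v) = 0 := by rw [← hι, ← hn', LinearMap.map_smul_of_tower, hw0, smul_zero]
      obtain ⟨⟨_, l, rfl⟩, hl⟩ :=
        IsLocalizedModule.exists_of_eq (S := Submonoid.powers (r a)) (h0.trans (map_zero (f a)).symm)
      have hl' : r a ^ l • ρ v = r a ^ l • (0 : M) := hl
      refine ⟨r a ^ l • v, l + n, ?_, ?_⟩
      · rw [map_smul, hl', smul_zero]
      · rw [map_smul, ← hn', smul_smul, ← pow_add, algebraMap_smul]
    choose v n hv0 hvw using hv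
    refine ⟨v, hv0, fun x hx => ?_⟩
    refine exists_pow_smul_mem_span (S := Rr a) (r a) ι v x ?_
    have hx' : ρa (ι x) = 0 := by rw [hι, hx, map_zero]
    refine (Submodule.span_le.2 ?_) (hwspan _ hx')
    rintro _ ⟨j, rfl⟩
    have hu : IsUnit (algebraMap R (Rr a) (r a ^ n j)) := by
      rw [map_pow]; exact (IsLocalization.Away.algebraMap_isUnit (r a)).pow _
    rw [SetLike.mem_coe, ← mem_iff_smul_unit _ hu, ← hvw]
    exact Submodule.subset_span ⟨j, rfl⟩
  choose v hv0 hv using hrel
  refine ⟨ρ, Fintype.linearCombination R fun q => v q.1 q.2, hρ, LinearMap.exact_iff.2 ?_⟩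
  rw [Fintype.range_linearCombination]
  refine le_antisymm (fun x hx => ?_) (Submodule.span_le.2 ?_)
  · refine mem_of_forall_pow_smul_mem r hr _ x fun a => ?_
    obtain ⟨n, hn⟩ := hv a x hx
    refine ⟨n, Submodule.span_mono ?_ hn⟩
    rintro _ ⟨j, rfl⟩
    exact ⟨⟨a, j⟩, rfl⟩
  · rintro _ ⟨⟨a, j⟩, rfl⟩
    exact hv0 a j

/-- A product of modules with presentations of a given finite size is finitely presented. -/
theorem finitePresentation_pi {ι : Type*} {A : ι → Type*} [∀ i, CommRing (A i)] {M : ι → Type*}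
    [∀ i, AddCommGroup (M i)] [∀ i, Module (A i) (M i)] {σ τ : Type} [Fintype σ] [Fintype τ]
    (h : ∀ i, Pres (A i) (M i) σ τ) : Module.FinitePresentation (∀ i, A i) (∀ i, M i) := by
  choose π ψ hπ hψ using h
  let P : (σ → ∀ i, A i) →ₗ[∀ i, A i] (∀ i, M i) :=
    { toFun := fun x i => π i fun j => x j i
      map_add' := fun x y => funext fun i => map_add (π i) (fun j => x j i) (fun j => y j i)
      map_smul' := fun c x => funext fun i => map_smul (π i) (c i) (fun j => x j i) }
  let Q : (τ → ∀ i, A i) →ₗ[∀ i, A i] (σ → ∀ i, A i) :=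
    { toFun := fun x j i => ψ i (fun l => x l i) j
      map_add' := fun x y => funext fun j => funext fun i =>
        congrFun (map_add (ψ i) (fun l => x l i) (fun l => y l i)) j
      map_smul' := fun c x => funext fun j => funext fun i =>
        congrFun (map_smul (ψ i) (c i) (fun l => x l i)) j }
  have hP : Function.Surjective P := fun y => by
    choose x hx using fun i => hπ i (y i)
    exact ⟨fun j i => x i j, funext hx⟩
  refine Module.finitePresentation_of_surjective P hP ?_
  have hk : LinearMap.ker P = LinearMap.range Q := by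
    refine le_antisymm (fun x hx => ?_) ?_
    · choose y hy using fun i => (hψ i _).1 (congrFun (LinearMap.mem_ker.1 hx) i)
      exact ⟨fun l i => y i l, funext fun j => funext fun i => congrFun (hy i) j⟩
    · rintro _ ⟨y, rfl⟩
      exact funext fun i => (hψ i).apply_apply_eq_zero (fun l => y l i)
  rw [hk, LinearMap.range_eq_map]
  exact Module.Finite.fg_top.map Q

end Groth.Agent.AlgzPi47
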