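import Groth.Agent.AlgzPi47.Pres
import Groth.Agent.AlgzW.PiPoints
import Groth.Agent.LimTop.FPLocal
import Groth.Agent.Props.QFP

/-!
# Uniform presentations of the sections of pullbacks to affine schemes
-/

set_option autoImplicit false

universe u

open CategoryTheory Limits AlgebraicGeometry Opposite TopologicalSpace

noncomputable section

namespace Groth.Agent.AlgzPi47

open Groth.Agent.LimTop Groth.Agent.QCoh

/-- Presentations of sections pull back. -/
theorem pres_pullback {T X : Scheme.{u}} (g : T ⟶ X) (F : X.Modules) [F.IsQuasicoherent] {U : X.Opens}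
    (hU : IsAffineOpen U) {W : T.Opens} (hW : IsAffineOpen W) (hle : W ≤ g ⁻¹ᵁ U)
    {σ τ : Type} [Fintype σ] [DecidableEq σ] [Fintype τ] [DecidableEq τ]
    (h : Pres Γ(X, U) Γ(F, U) σ τ) :
    Pres Γ(T, W) Γ((Scheme.Modules.pullback g).obj F, W) σ τ := by
  let := (g.appLE U W hle).hom.toAlgebra
  let := secModule g F hle
  haveI : IsScalarTower Γ(X, U) Γ(T, W) Γ((Scheme.Modules.pullback g).obj F, W) :=
    IsScalarTower.of_algebraMap_smul fun _ _ => rfl
  exact h.baseChange (isBaseChange_unitSec g F hle hU hW)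

/-- A unimodular family of global functions subordinate to a finite cover of an affine scheme. -/
theorem exists_unimodular {T : Scheme.{u}} [IsAffine T] {n : ℕ} (W : Fin n → T.Opens)
    (hW : ∀ x, ∃ k, x ∈ W k) :
    ∃ r : Fin n → Γ(T, ⊤), Ideal.span (Set.range r) = ⊤ ∧ ∀ k, T.basicOpen (r k) ≤ W k := by
  obtain ⟨r, hr, hle⟩ := Groth.Agent.AlgzW.PiPoints.exists_cover_elems (R := Γ(T, ⊤))
    (fun k => T.isoSpec.inv ⁻¹ᵁ W k) (fun x => hW (T.isoSpec.inv x))
  refine ⟨r, hr, fun k x hx => ?_⟩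
  rw [← Scheme.toSpecΓ_preimage_basicOpen, Scheme.Hom.mem_preimage] at hx
  have hx' : T.isoSpec.inv (T.toSpecΓ x) ∈ W k :=
    hle k (by rw [Groth.Agent.AlgzW.PiPoints.range_loc]; exact hx)
  rw [← Scheme.Hom.comp_apply, Scheme.toSpecΓ_isoSpec_inv] at hx'
  simpa using hx'

/-- Sections of the pullbacks to affine schemes have presentations of bounded size. -/
theorem exists_uniform_pres {X : Scheme.{u}} [CompactSpace X] (F : X.Modules) (hF : CohB1.IsFP F) :
    ∃ (σ τ : Type) (_ : Fintype σ) (_ : Fintype τ), ∀ (T : Scheme.{u}) [IsAffine T] (g : T ⟶ X),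
      Pres Γ(T, ⊤) Γ((Scheme.Modules.pullback g).obj F, ⊤) σ τ := by
  have : SheafOfModules.IsFinitePresentation.{u} F := hF
  have : F.IsQuasicoherent := inferInstance
  choose U hU hxU _ hfp using fun x : X => fpOn_of_isFP F hF ⊤ x (Opens.mem_top x)
  obtain ⟨s, hs⟩ := isCompact_univ.elim_finite_subcover (fun x => (U x : Set X)) (fun x => (U x).2)
    (fun x _ => Set.mem_iUnion.2 ⟨x, hxU x⟩)
  obtain ⟨n, ⟨e⟩⟩ := Finite.exists_equiv_fin s
  let V : Fin n → X.Opens := fun k => U (e.symm k).1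
  have hV : ∀ x, ∃ k, x ∈ V k := fun x => by
    obtain ⟨y, hy, hxy⟩ := Set.mem_iUnion₂.1 (hs (Set.mem_univ x))
    exact ⟨e ⟨y, hy⟩, by simpa [V] using hxy⟩
  choose N K hNK using fun k : Fin n =>
    haveI := hfp (e.symm k).1
    exists_pres Γ(X, V k) Γ(F, V k)
  refine ⟨Σ k : Fin n, Fin (N k), Σ k : Fin n, Fin (K k) ⊕ Σ l : Fin n, Fin (N l),
    inferInstance, inferInstance, fun T _ g => ?_⟩
  obtain ⟨r, hr, hle⟩ := exists_unimodular (fun k => g ⁻¹ᵁ V k) (fun x => hV (g x))
  let P := (Scheme.Modules.pullback g).obj F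
  have hqc : P.IsQuasicoherent := inferInstance
  have htop := isAffineOpen_top T
  letI : ∀ k, Module Γ(T, ⊤) Γ(P, T.basicOpen (r k)) := fun k => resModule P (r k)
  letI : ∀ k, Algebra Γ(T, ⊤) Γ(T, T.basicOpen (r k)) := fun k => (rres (T.basicOpen_le (r k))).hom.toAlgebra
  haveI : ∀ k, IsScalarTower Γ(T, ⊤) Γ(T, T.basicOpen (r k)) Γ(P, T.basicOpen (r k)) :=
    fun k => IsScalarTower.of_algebraMap_smul fun _ _ => rfl
  haveI : ∀ k, IsLocalization.Away (r k) Γ(T, T.basicOpen (r k)) :=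
    fun k => htop.isLocalization_basicOpen (r k)
  haveI : ∀ k, IsLocalizedModule.Away (r k) (resLin P (r k)) :=
    fun k => isLocalizedModule_resLin P htop (r k)
  exact Pres.of_cover r hr (fun k => Γ(T, T.basicOpen (r k))) (fun k => Γ(P, T.basicOpen (r k)))
    (fun k => resLin P (r k)) (fun k => Fin (N k)) (fun k => Fin (K k))
    fun k => pres_pullback g F (hU _) (htop.basicOpen (r k)) (hle k) (hNK k)

end Groth.Agent.AlgzPi47
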